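import Mathlib
import Cfsg.Agent.H939.RgdP
import Cfsg.Agent.H622.Levi.Chain
import Cfsg.Agent.H880.Six.Lrg

/-!
S3831, task T7a: the fields `pair`, `two`, `odd` of `LRG u (VJ (orth r))` for a long root element `u` of a group with
a root group datum over `F₃` (opposite long root groups generate `SL₂(3)`).
-/

set_option autoImplicit false
set_option linter.unusedSectionVars false

namespace Cfsg.Agent.H142.SNX

open CoxeterSystem Cfsg.Agent.ChevalleyStructure.CoxeterGeom Cfsg.Agent.Tits.Roots Cfsg.Agent.Tits.Core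
  Cfsg.Agent.Tits.RootComb Cfsg.Agent.Tits.Exchange Cfsg.Agent.Nodes.Reps Cfsg.Agent.Nodes.BNOf
  Cfsg.Agent.Nodes.StabComb Cfsg.Agent.Nodes.Bruhat Cfsg.Agent.Nodes.OppDec Cfsg.Agent.Nodes.LeviDec
  Cfsg.Agent.Nodes.NormX Cfsg.Agent.H622.Levi
open Cfsg.Agent.H880.Six (Br)
open Cfsg.Agent.LieRecognition.BNCox (cA)
open Matrix

/-! ### braid pairs -/

section Br

variable {Y : Type*} [Group Y]

theorem br_conj {a b : Y} (h : Br a b) (x : Y) : Br (x * a * x⁻¹) (x * b * x⁻¹) := by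
  have e : (x * a * x⁻¹ * (x * b * x⁻¹)) ^ 3 = x * (a * b) ^ 3 * x⁻¹ := by
    rw [← conj_pow]; congr 1; group
  obtain ⟨h1, h2, h3⟩ := h
  refine ⟨?_, ?_, ?_⟩
  · rw [e]
    have : x * (a * b) ^ 3 * x⁻¹ * (x * (a * b) ^ 3 * x⁻¹) = x * ((a * b) ^ 3 * (a * b) ^ 3) * x⁻¹ := by group
    rw [this, h1]; group
  · rw [e]
    intro h4
    apply h2
    have : (a * b) ^ 3 = x⁻¹ * (x * (a * b) ^ 3 * x⁻¹) * x := by group
    rw [this, h4]; group
  · rw [e]
    have e1 : x * (a * b) ^ 3 * x⁻¹ * (x * a * x⁻¹) = x * ((a * b) ^ 3 * a) * x⁻¹ := by group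
    have e2 : x * a * x⁻¹ * (x * (a * b) ^ 3 * x⁻¹) = x * (a * (a * b) ^ 3) * x⁻¹ := by group
    rw [e1, e2, h3]

theorem br_map_iff {G : Type*} [Group G] (f : G →* Y) (hf : Function.Injective f) {a b : G} :
    Br (f a) (f b) ↔ Br a b := by
  unfold Br
  rw [← map_mul, ← map_pow, ← map_mul, ← map_mul, ← map_mul, hf.eq_iff, ← map_one f, hf.eq_iff, Ne, Ne, hf.eq_iff]

/-- a braid pair does not generate a `3`-group -/
theorem not_isPGroup_of_br {a b : Y} (h : Br a b) {K : Subgroup Y} (ha : a ∈ K) (hb : b ∈ K) : ¬ IsPGroup 3 K := by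
  intro hK
  obtain ⟨k, hk⟩ := hK ⟨(a * b) ^ 3, K.pow_mem (K.mul_mem ha hb) 3⟩
  have h1 : ((a * b) ^ 3) ^ 3 ^ k = 1 := congrArg Subtype.val hk
  have h2 : ((a * b) ^ 3) ^ 2 = 1 := by rw [pow_two]; exact h.1
  have h3 : orderOf ((a * b) ^ 3) ∣ 3 ^ k := orderOf_dvd_of_pow_eq_one h1
  have h4 : orderOf ((a * b) ^ 3) ∣ 2 := orderOf_dvd_of_pow_eq_one h2
  have h5 : Nat.Coprime (3 ^ k) 2 := Nat.Coprime.pow_left k (by decide)
  have h6 : orderOf ((a * b) ^ 3) ∣ 1 := by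
    rw [← Nat.coprime_iff_gcd_eq_one.1 h5]
    exact Nat.dvd_gcd h3 h4
  exact h.2.1 (orderOf_eq_one_iff.1 (Nat.dvd_one.1 h6))

end Br

/-! ### `SL₂(3)` -/

section SL

variable {F : Type} [Field F]

theorem h01 : (0 : Fin 2) ≠ 1 := by decide
theorem h10 : (1 : Fin 2) ≠ 0 := by decide

/-- upper transvection -/
def tu (a : F) : SpecialLinearGroup (Fin 2) F := SpecialLinearGroup.transvection h01 a
/-- lower transvection -/
def tl (a : F) : SpecialLinearGroup (Fin 2) F := SpecialLinearGroup.transvection h10 a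

theorem coe_tu (a : F) : (tu a).1 = !![1, a; 0, 1] := by
  unfold tu
  change Matrix.transvection 0 1 a = _
  unfold Matrix.transvection
  ext i j
  fin_cases i <;> fin_cases j <;> simp

theorem coe_tl (a : F) : (tl a).1 = !![1, 0; a, 1] := by
  unfold tl
  change Matrix.transvection 1 0 a = _
  unfold Matrix.transvection
  ext i j
  fin_cases i <;> fin_cases j <;> simp

theorem sl_ext {g k : SpecialLinearGroup (Fin 2) F} (h : g.1 = k.1) : g = k := Subtype.ext h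

theorem tl_inv (a : F) : (tl a)⁻¹ = tl (-a) := by
  rw [inv_eq_iff_mul_eq_one]
  apply sl_ext
  change (tl a).1 * (tl (-a)).1 = 1
  rw [coe_tl, coe_tl]
  ext i j
  fin_cases i <;> fin_cases j <;> simp [Matrix.mul_apply, Fin.sum_univ_two]

theorem tu_zero : tu (0 : F) = 1 := by
  apply sl_ext
  rw [coe_tu]
  change _ = (1 : Matrix (Fin 2) (Fin 2) F)
  ext i j
  fin_cases i <;> fin_cases j <;> simp

theorem tl_zero : tl (0 : F) = 1 := by
  apply sl_ext
  rw [coe_tl]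
  change _ = (1 : Matrix (Fin 2) (Fin 2) F)
  ext i j
  fin_cases i <;> fin_cases j <;> simp

theorem tu_cube (h3 : (3 : F) = 0) (a : F) : tu a ^ 3 = 1 := by
  apply sl_ext
  rw [pow_succ, pow_two]
  change (tu a).1 * (tu a).1 * (tu a).1 = (1 : Matrix (Fin 2) (Fin 2) F)
  rw [coe_tu]
  ext i j
  fin_cases i <;> fin_cases j <;> simp [Matrix.mul_apply, Fin.sum_univ_two]
  linear_combination a * h3

/-- `-1` -/
def mo : SpecialLinearGroup (Fin 2) F := ⟨!![-1, 0; 0, -1], by rw [Matrix.det_fin_two]; simp⟩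

theorem mo_mul (g : SpecialLinearGroup (Fin 2) F) : mo * g = g * mo := by
  apply sl_ext
  change (!![-1, 0; 0, -1] : Matrix (Fin 2) (Fin 2) F) * g.1 = g.1 * !![-1, 0; 0, -1]
  ext i j
  fin_cases i <;> fin_cases j <;> simp [Matrix.mul_apply, Fin.sum_univ_two]

theorem mo_sq : (mo : SpecialLinearGroup (Fin 2) F) * mo = 1 := by
  apply sl_ext
  change (!![-1, 0; 0, -1] : Matrix (Fin 2) (Fin 2) F) * !![-1, 0; 0, -1] = 1
  ext i j
  fin_cases i <;> fin_cases j <;> simp [Matrix.mul_apply, Fin.sum_univ_two]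

theorem mo_ne (h3 : (3 : F) = 0) : (mo : SpecialLinearGroup (Fin 2) F) ≠ 1 := by
  intro h
  have h1 : (-1 : F) = 1 := congrFun (congrFun (congrArg Subtype.val h) 0) 0
  apply one_ne_zero (α := F)
  linear_combination h3 + h1

/-- the Weyl element -/
def wm : SpecialLinearGroup (Fin 2) F := ⟨!![0, 1; -1, 0], by rw [Matrix.det_fin_two]; simp⟩

theorem tl_eq_conj (a : F) : tl (-a) = wm * tu a * wm⁻¹ := by
  rw [eq_mul_inv_iff_mul_eq]
  apply sl_ext
  change (tl (-a)).1 * !![0, 1; -1, 0] = !![0, 1; -1, 0] * (tu a).1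
  rw [coe_tl, coe_tu]
  ext i j
  fin_cases i <;> fin_cases j <;> simp [Matrix.mul_apply, Fin.sum_univ_two]

variable (h3 : (3 : F) = 0)
include h3

/-- `(u b) ^ 3 = -1` if `a c = -1` -/
theorem cube_of_neg {a c : F} (hac : a * c = -1) : (tu a * tl c) ^ 3 = mo := by
  apply sl_ext
  rw [pow_succ, pow_two]
  change (tu a).1 * (tl c).1 * ((tu a).1 * (tl c).1) * ((tu a).1 * (tl c).1) = !![-1, 0; 0, -1]
  rw [coe_tu, coe_tl]
  have hmul : (!![1, a; 0, 1] * !![1, 0; c, 1] : Matrix (Fin 2) (Fin 2) F) = !![0, a; c, 1] := by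
    ext i j
    fin_cases i <;> fin_cases j <;> simp [Matrix.mul_apply, Fin.sum_univ_two, hac]
  rw [hmul]
  ext i j
  fin_cases i <;> fin_cases j <;> simp [Matrix.mul_apply, Fin.sum_univ_two]
  · exact hac
  · linear_combination a * hac
  · exact Or.inl (by linear_combination hac)
  · linear_combination 2 * hac

theorem sq_of_pos {a c : F} (hac : a * c = 1) : (tu a * tl c) ^ 2 = mo := by
  apply sl_ext
  rw [pow_two]
  change (tu a).1 * (tl c).1 * ((tu a).1 * (tl c).1) = !![-1, 0; 0, -1]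
  rw [coe_tu, coe_tl]
  have hmul : (!![1, a; 0, 1] * !![1, 0; c, 1] : Matrix (Fin 2) (Fin 2) F) = !![2, a; c, 1] := by
    ext i j
    fin_cases i <;> fin_cases j <;> simp [Matrix.mul_apply, Fin.sum_univ_two, hac]
    norm_num
  rw [hmul]
  ext i j
  fin_cases i <;> fin_cases j <;> simp [Matrix.mul_apply, Fin.sum_univ_two]
  · linear_combination hac + 2 * h3
  · linear_combination a * h3
  · linear_combination c * h3
  · linear_combination hac + h3

theorem br_of_neg {a c : F} (hac : a * c = -1) : Br (tu a) (tl c) := by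
  unfold Br
  rw [cube_of_neg h3 hac]
  exact ⟨mo_sq, mo_ne h3, mo_mul _⟩

theorem not_br_of_pos {a c : F} (hac : a * c = 1) : ¬ Br (tu a) (tl c) := by
  rintro ⟨h1, -, -⟩
  have h2 : (tu a * tl c) ^ 3 * (tu a * tl c) ^ 3 = ((tu a * tl c) ^ 2) ^ 3 := by
    rw [← pow_add, ← pow_mul]
  rw [h2, sq_of_pos h3 hac, pow_succ, pow_two, mo_sq, one_mul] at h1
  exact mo_ne h3 h1

theorem not_br_zero {a : F} : ¬ Br (tu a) (tl 0) := by
  rintro ⟨-, h1, -⟩
  apply h1
  rw [tl_zero, mul_one, tu_cube h3]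

end SL

/-! ### the group -/

variable {I W : Type*} [Fintype I] [DecidableEq I] [Group W] {Y : Type*} [Group Y] {M : CoxeterMatrix I}
  {cs : CoxeterSystem M W} {A : I → I → ℤ} {h : IsCartan M A} {T : Subgroup Y} {n : I → Y}
  {X : (I → ℤ) → Subgroup Y}

/-- `⟨X_r, X_{-r}⟩ = SL₂(F)`, `|F| = 3` -/
theorem exists_psi [Finite W] [Finite Y] (R : RGD cs h 3 T n X) {i j : I} (hij : M i j = 3) {w : W} {r : I → ℤ}
    (hw : rep cs h w (sr i) = r) (hc : Nat.card (X (sr i)) = 3) :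
    ∃ (F : Type) (_ : Field F) (ψ : SpecialLinearGroup (Fin 2) F →* Y), Nat.card F = 3 ∧ Function.Injective ψ ∧
      (∀ y, y ∈ X r ↔ ∃ t, ψ (tu t) = y) ∧ (∀ y, y ∈ X (-r) ↔ ∃ t, ψ (tl t) = y) := by
  have hne : i ≠ j := by
    rintro rfl
    rw [M.diagonal] at hij
    omega
  let k : Fin 2 ↪ I := ⟨![i, j], by
    intro a b hab
    fin_cases a <;> fin_cases b
    · rfl
    · exact absurd hab hne
    · exact absurd hab hne.symm
    · rfl⟩
  obtain ⟨F, i1, i2, φ, C⟩ := exists_co R le_rfl k (by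
    intro a b
    fin_cases a <;> fin_cases b
    · change M i i = _
      rw [M.diagonal]; rfl
    · change M i j = _
      rw [hij]; rfl
    · change M j i = _
      rw [M.symmetric, hij]; rfl
    · change M j j = _
      rw [M.diagonal]; rfl)
  have C1 := C.one (fun _ : Fin 1 => i) rfl
  have hinj0 : Function.Injective (φ.comp emb) := by
    rw [injective_iff_map_eq_one]
    intro g hg
    exact emb_mem_center (C.ker hg)
  have hr1 : ∀ y, y ∈ X (sr i) ↔ ∃ t, φ.comp emb (tu t) = y := by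
    intro y
    have h1 := C1.root 0 1 h01
    have h2 : cr (fun _ : Fin 1 => i) 0 1 = sr i := cr_succ (fun _ : Fin 1 => i) 0
    rw [h2] at h1
    have h3 : y ∈ X (sr i) ↔ y ∈ (X (sr i) : Set Y) := Iff.rfl
    rw [h3, h1]
    rfl
  have hr2 : ∀ y, y ∈ X (-sr i) ↔ ∃ t, φ.comp emb (tl t) = y := by
    intro y
    have h1 := C1.root 1 0 h10
    have h2 : cr (fun _ : Fin 1 => i) 1 0 = -sr i := by
      rw [← cr_neg]
      exact congrArg Neg.neg (cr_succ (fun _ : Fin 1 => i) 0)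
    rw [h2] at h1
    have h3 : y ∈ X (-sr i) ↔ y ∈ (X (-sr i) : Set Y) := Iff.rfl
    rw [h3, h1]
    rfl
  obtain ⟨kk, hkk⟩ := exists_rp cs R.nsys w
  refine ⟨F, i1, (MulAut.conj kk).toMonoidHom.comp (φ.comp emb), ?_, ?_, ?_, ?_⟩
  · rw [← hc]
    refine Nat.card_congr (Equiv.ofBijective (fun t => ⟨φ.comp emb (tu t), (hr1 _).2 ⟨t, rfl⟩⟩) ⟨?_, ?_⟩)
    · intro t t' htt
      have h1 : φ.comp emb (tu t) = φ.comp emb (tu t') := congrArg Subtype.val htt
      have h2 := hinj0 h1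
      have h3 := congrArg Subtype.val h2
      rw [coe_tu, coe_tu] at h3
      exact congrFun (congrFun h3 0) 1
    · rintro ⟨y, hy⟩
      obtain ⟨t, rfl⟩ := (hr1 y).1 hy
      exact ⟨t, rfl⟩
  · exact (MulAut.conj kk).injective.comp hinj0
  · intro y
    rw [← hw, ← R.conj_rp hkk (isRoot_sr cs h i), mem_cj, hr1]
    refine exists_congr fun t => ?_
    constructor
    · intro h1
      change kk * (φ.comp emb (tu t)) * kk⁻¹ = y
      rw [h1]; group
    · intro h1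
      rw [← h1]
      change _ = kk⁻¹ * (kk * (φ.comp emb (tu t)) * kk⁻¹) * kk
      group
  · intro y
    have h5 : -r = rep cs h w (-sr i) := by rw [map_neg, hw]
    rw [h5, ← R.conj_rp hkk (isRoot_sr cs h i).neg, mem_cj, hr2]
    refine exists_congr fun t => ?_
    constructor
    · intro h1
      change kk * (φ.comp emb (tl t)) * kk⁻¹ = y
      rw [h1]; group
    · intro h1
      rw [← h1]
      change _ = kk⁻¹ * (kk * (φ.comp emb (tl t)) * kk⁻¹) * kk
      group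

theorem three_zero {F : Type} [Field F] (hF : Nat.card F = 3) : (3 : F) = 0 := by
  have : Finite F := Nat.finite_of_card_ne_zero (by omega)
  have := Fintype.ofFinite F
  have h1 : Fintype.card F = 3 := by rw [← hF, Nat.card_eq_fintype_card]
  have h2 := Nat.cast_card_eq_zero F
  rw [h1] at h2
  exact_mod_cast h2

theorem sq_of_ne {F : Type} [Field F] (hF : Nat.card F = 3) {a : F} (ha : a ≠ 0) : a = 1 ∨ a = -1 := by
  have : Finite F := Nat.finite_of_card_ne_zero (by omega)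
  have := Fintype.ofFinite F
  have h1 : Fintype.card F = 3 := by rw [← hF, Nat.card_eq_fintype_card]
  have h2 := FiniteField.pow_card_sub_one_eq_one a ha
  rw [h1] at h2
  rw [show 3 - 1 = 2 from rfl, pow_two] at h2
  exact mul_self_eq_one_iff.1 h2

/-! ### opposite root elements -/

section Opp

variable {r : I → ℤ}

/-- the facts about `X_r`, `X_{-r}` -/
structure Fact3 (X : (I → ℤ) → Subgroup Y) (r : I → ℤ) (u : Y) : Prop where
  mem : u ∈ X r
  cube : u ^ 3 = 1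
  ne : u ≠ 1
  zp : X r = Subgroup.zpowers u
  /-- one of `b`, `b⁻¹` -/
  br : ∀ b ∈ X (-r), b ≠ 1 → Br u b ∨ Br u b⁻¹
  uniq : ∀ b ∈ X (-r), ∀ b' ∈ X (-r), Br u b → Br u b' → b = b'
  ex : ∃ b ∈ X (-r), Br u b ∧ ∃ g, b = g * u * g⁻¹

theorem card_X [Finite W] (R : RGD cs h 3 T n X) {i : I} {w : W} (hw : rep cs h w (sr i) = r)
    (hc : Nat.card (X (sr i)) = 3) : Nat.card (X r) = 3 := by
  obtain ⟨kk, hkk⟩ := exists_rp cs R.nsys w
  rw [← hw, ← R.conj_rp hkk (isRoot_sr cs h i), ← hc]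
  exact (Nat.card_congr ((X (sr i)).equivMapOfInjective _ (MulAut.conj kk).injective).toEquiv).symm

theorem fact3 [Finite W] [Finite Y] (R : RGD cs h 3 T n X) {i j : I} (hij : M i j = 3) {w : W}
    (hw : rep cs h w (sr i) = r) (hc : Nat.card (X (sr i)) = 3) {u : Y} (hu : u ∈ X r) (hu1 : u ≠ 1) :
    Fact3 X r u := by
  obtain ⟨F, _, ψ, hF, hinj, h1, h2⟩ := exists_psi R hij hw hc
  have h3 := three_zero hF
  obtain ⟨a, rfl⟩ := (h1 u).1 hu
  have ha : a ≠ 0 := by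
    rintro rfl
    apply hu1
    rw [tu_zero, map_one]
  have haa : a * a = 1 := by
    rcases sq_of_ne hF ha with h | h <;> rw [h] <;> ring
  have hcu : (ψ (tu a)) ^ 3 = 1 := by rw [← map_pow, tu_cube h3, map_one]
  have key : ∀ c : F, c ≠ 0 → a * c = 1 ∨ a * c = -1 := by
    intro c hc
    rcases sq_of_ne hF ha with h | h <;> rcases sq_of_ne hF hc with h' | h' <;> rw [h, h'] <;> simp
  have key2 : ∀ c : F, Br (ψ (tu a)) (ψ (tl c)) → a * c = -1 := by
    intro c hb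
    rw [br_map_iff ψ hinj] at hb
    have hc0 : c ≠ 0 := by
      rintro rfl
      exact not_br_zero h3 hb
    rcases key c hc0 with h | h
    · exact absurd hb (not_br_of_pos h3 h)
    · exact h
  refine ⟨hu, hcu, hu1, ?_, ?_, ?_, ?_⟩
  · have h4 : Subgroup.zpowers (ψ (tu a)) ≤ X r := by
      rw [Subgroup.zpowers_le]; exact hu
    refine (Subgroup.eq_of_le_of_card_ge h4 ?_).symm
    rw [card_X R hw hc, Nat.card_zpowers, orderOf_eq_prime hcu hu1]
  · intro b hb hb1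
    obtain ⟨c, rfl⟩ := (h2 b).1 hb
    have hc0 : c ≠ 0 := by
      rintro rfl
      apply hb1
      rw [tl_zero, map_one]
    rcases key c hc0 with h | h
    · right
      rw [← map_inv, tl_inv, br_map_iff ψ hinj]
      exact br_of_neg h3 (by rw [mul_neg, h])
    · left
      rw [br_map_iff ψ hinj]
      exact br_of_neg h3 h
  · intro b hb b' hb' h4 h5
    obtain ⟨c, rfl⟩ := (h2 b).1 hb
    obtain ⟨c', rfl⟩ := (h2 b').1 hb'
    have h6 := key2 c h4
    have h7 := key2 c' h5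
    have : c = c' := mul_left_cancel₀ ha (by rw [h6, h7])
    rw [this]
  · refine ⟨ψ (tl (-a)), (h2 _).2 ⟨_, rfl⟩, ?_, ?_⟩
    · rw [br_map_iff ψ hinj]
      exact br_of_neg h3 (by rw [mul_neg, haa])
    · refine ⟨ψ wm, ?_⟩
      rw [← map_mul, ← map_inv, ← map_mul, tl_eq_conj]

theorem isPGroup_VJ [Finite W] (R : RGD cs h 3 T n X) (J : Set I) : IsPGroup 3 ↥(VJ cs h X J) :=
  R.isPGroup_of_pos (S := NotJ cs h J) fun _ hx => ⟨hx.1, hx.2.1⟩

/-- a subgroup of order three is centralised by the `3`-elements of its normaliser -/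
theorem comm_of_zp {u q : Y} (hu3 : u ^ 3 = 1) (hu1 : u ≠ 1) (hq : q * u * q⁻¹ ∈ Subgroup.zpowers u) {k : ℕ}
    (hk : q ^ 3 ^ k = 1) : q * u * q⁻¹ = u := by
  have hord : orderOf u = 3 := orderOf_eq_prime hu3 hu1
  obtain ⟨m, hm⟩ := Subgroup.mem_zpowers_iff.1 hq
  have h1 : u ^ (m % 3) = q * u * q⁻¹ := by
    rw [← hm]
    have h2 := zpow_mod_orderOf u m
    rw [hord] at h2
    exact h2
  have h2 : m % 3 = 0 ∨ m % 3 = 1 ∨ m % 3 = 2 := by omega
  rcases h2 with h2 | h2 | h2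
  · exfalso
    rw [h2, zpow_zero] at h1
    apply hu1
    have : u = q⁻¹ * (q * u * q⁻¹) * q := by group
    rw [this, ← h1]; group
  · rw [h2, zpow_one] at h1
    exact h1.symm
  · exfalso
    have h3 : q * u * q⁻¹ = u⁻¹ := by
      rw [← h1, h2, eq_inv_iff_mul_eq_one]
      have h4 : u ^ (2 : ℤ) * u = u ^ 3 := by
        rw [← zpow_natCast, ← _root_.zpow_add_one]; rfl
      rw [h4, hu3]
    have h4 : ∀ m : ℕ, q ^ (2 * m) * u * (q ^ (2 * m))⁻¹ = u := by
      intro m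
      induction m with
      | zero => simp
      | succ m ih =>
        have e1 : q ^ (2 * (m + 1)) * u * (q ^ (2 * (m + 1)))⁻¹ =
            q * (q * (q ^ (2 * m) * u * (q ^ (2 * m))⁻¹) * q⁻¹) * q⁻¹ := by
          rw [show 2 * (m + 1) = 1 + (1 + 2 * m) by ring, pow_add, pow_add, pow_one]; group
        have e2 : q * u⁻¹ * q⁻¹ = (q * u * q⁻¹)⁻¹ := by group
        rw [e1, ih, h3, e2, h3, inv_inv]
    have h5 : Odd (3 ^ k) := Odd.pow (by decide)
    obtain ⟨m, hm5⟩ := h5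
    have h6 := h4 m
    have h7 : q ^ (2 * m) = q⁻¹ := by
      rw [eq_inv_iff_mul_eq_one, ← pow_succ, ← hm5, hk]
    rw [h7, inv_inv] at h6
    have h8 : q * u * q⁻¹ = u := by
      calc q * u * q⁻¹ = q * (q⁻¹ * u * q) * q⁻¹ := by rw [h6]
        _ = u := by group
    rw [h3] at h8
    apply hu1
    have h9 : u ^ 2 = 1 := by
      rw [pow_two]
      nth_rw 1 [← h8]
      rw [inv_mul_cancel]
    have h10 : u = u ^ 3 * (u ^ 2)⁻¹ := by group
    rw [h10, hu3, h9]; group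

variable {R : RGD cs h 3 T n X} (L : Long R r (X r))

include L

theorem comm_VJ [Finite W] {u : Y} (f : Fact3 X r u) {q : Y} (hq : q ∈ VJ cs h X (orth cs h r)) :
    q * u * q⁻¹ = u := by
  obtain ⟨k, hk⟩ := isPGroup_VJ R (orth cs h r) ⟨q, hq⟩
  refine comm_of_zp f.cube f.ne ?_ (k := k) (congrArg Subtype.val hk)
  rw [← f.zp]
  have h1 := H939.RgdA.VJ_le_norm L hq
  rw [← h1]
  exact conj_mem_cj.2 f.mem

/-- opposites are conjugate under `Q = VJ (orth r)` into `X_{-r}` -/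
theorem exists_q [Finite W] [Finite Y] (hG : GG cs h T X = ⊤) {u : Y} (f : Fact3 X r u) {g : Y}
    (hb : Br u (g * u * g⁻¹)) :
    ∃ q ∈ VJ cs h X (orth cs h r), q⁻¹ * (g * u * g⁻¹) * q ∈ X (-r) := by
  obtain ⟨w, hw⟩ := H939.RgdA.exists_neg (cs := cs) (h := h) L.root
  obtain ⟨s, hs⟩ := exists_rp cs R.nsys w
  have hsX : cj s (X r) = X (-r) := by rw [R.conj_rp hs L.root, hw]
  rcases H939.RgdP.opp_or_pgroup L hG hs hw 1 g with ⟨x, h1, h2⟩ | h1
  · replace h1 : cj 1 (X r) = cj x (X r) := h1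
    replace h2 : cj g (X r) = cj (x * s) (X r) := h2
    rw [cj_one] at h1
    have h3 : x ∈ PJ cs h T X (orth cs h r) := by
      rw [← L.normalizer_inf_GG]
      exact ⟨mem_normalizer_iff_cj.2 h1.symm, by rw [hG]; trivial⟩
    obtain ⟨l, hl, v, hv, e⟩ := (mem_PJ R).1 (inv_mem h3)
    have e' : x = v⁻¹ * l⁻¹ := by rw [← inv_inv x, e, _root_.mul_inv_rev]
    refine ⟨v⁻¹, inv_mem hv, ?_⟩
    have hl2 : cj l⁻¹ (X (-r)) = X (-r) := by
      have h4 : l⁻¹ ∈ LJ cs h T X (orth cs h r) := inv_mem hl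
      rw [← L.normalizer_inf_opp hs hw] at h4
      have h5 := h4.1.2
      rw [← hsX]
      exact mem_normalizer_iff_cj.1 h5
    have h4 : g * u * g⁻¹ ∈ cj g (X r) := conj_mem_cj.2 f.mem
    rw [h2, cj_mul, hsX, e', cj_mul, hl2, mem_cj] at h4
    exact h4
  · exfalso
    rw [cj_one] at h1
    exact not_isPGroup_of_br hb (K := X r ⊔ cj g (X r)) (Subgroup.mem_sup_left f.mem)
      (Subgroup.mem_sup_right (conj_mem_cj.2 f.mem)) h1

/-- **the field `pair`** -/
theorem pair [Finite W] [Finite Y] (hG : GG cs h T X = ⊤) {u : Y} (f : Fact3 X r u) (g : Y) :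
    IsPGroup 3 ↥(Subgroup.closure ({u, g * u * g⁻¹} : Set Y)) ∨ Br u (g * u * g⁻¹) ∨ Br u (g * u⁻¹ * g⁻¹) := by
  obtain ⟨w, hw⟩ := H939.RgdA.exists_neg (cs := cs) (h := h) L.root
  obtain ⟨s, hs⟩ := exists_rp cs R.nsys w
  have hsX : cj s (X r) = X (-r) := by rw [R.conj_rp hs L.root, hw]
  rcases H939.RgdP.opp_or_pgroup L hG hs hw 1 g with ⟨x, h1, h2⟩ | h1
  · right
    replace h1 : cj 1 (X r) = cj x (X r) := h1
    replace h2 : cj g (X r) = cj (x * s) (X r) := h2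
    rw [cj_one] at h1
    have h3 : x ∈ PJ cs h T X (orth cs h r) := by
      rw [← L.normalizer_inf_GG]
      exact ⟨mem_normalizer_iff_cj.2 h1.symm, by rw [hG]; trivial⟩
    obtain ⟨l, hl, v, hv, e⟩ := (mem_PJ R).1 (inv_mem h3)
    have e' : x = v⁻¹ * l⁻¹ := by rw [← inv_inv x, e, _root_.mul_inv_rev]
    have hl2 : cj l⁻¹ (X (-r)) = X (-r) := by
      have h4 : l⁻¹ ∈ LJ cs h T X (orth cs h r) := inv_mem hl
      rw [← L.normalizer_inf_opp hs hw] at h4
      have h5 := h4.1.2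
      rw [← hsX]
      exact mem_normalizer_iff_cj.1 h5
    have h4 : g * u * g⁻¹ ∈ cj g (X r) := conj_mem_cj.2 f.mem
    rw [h2, cj_mul, hsX, e', cj_mul, hl2, mem_cj] at h4
    have h5 : v⁻¹⁻¹ * (g * u * g⁻¹) * v⁻¹ ≠ 1 := by
      intro h6
      apply f.ne
      have : u = g⁻¹ * (v⁻¹ * (v⁻¹⁻¹ * (g * u * g⁻¹) * v⁻¹) * v⁻¹⁻¹) * g := by group
      rw [this, h6]; group
    have h6 := comm_VJ L f (inv_mem hv)
    rcases f.br _ h4 h5 with h7 | h7
    · left
      have h8 := br_conj h7 v⁻¹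
      rw [h6] at h8
      have e : v⁻¹ * (v⁻¹⁻¹ * (g * u * g⁻¹) * v⁻¹) * v⁻¹⁻¹ = g * u * g⁻¹ := by group
      rwa [e] at h8
    · right
      have h8 := br_conj h7 v⁻¹
      rw [h6] at h8
      have e : v⁻¹ * (v⁻¹⁻¹ * (g * u * g⁻¹) * v⁻¹)⁻¹ * v⁻¹⁻¹ = g * u⁻¹ * g⁻¹ := by group
      rwa [e] at h8
  · left
    rw [cj_one] at h1
    refine h1.to_le ?_
    rw [Subgroup.closure_le]
    rintro y (rfl | rfl)
    · exact Subgroup.mem_sup_left f.mem
    · exact Subgroup.mem_sup_right (conj_mem_cj.2 f.mem)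

/-- all opposites: `q b₀ q⁻¹` -/
theorem opp_eq [Finite W] [Finite Y] (hG : GG cs h T X = ⊤) {u : Y} (f : Fact3 X r u) {b₀ : Y} (hb₀ : b₀ ∈ X (-r))
    (hbr : Br u b₀) {g : Y} (hb : Br u (g * u * g⁻¹)) :
    ∃ q ∈ VJ cs h X (orth cs h r), g * u * g⁻¹ = q * b₀ * q⁻¹ := by
  obtain ⟨q, hq, h1⟩ := exists_q L hG f hb
  refine ⟨q, hq, ?_⟩
  have h2 := br_conj hb q⁻¹
  rw [comm_VJ L f (inv_mem hq), inv_inv] at h2
  have h3 := f.uniq _ h1 _ hb₀ h2 hbr
  rw [← h3]; group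

/-- **the field `two`** -/
theorem two [Finite W] [Finite Y] (hG : GG cs h T X = ⊤) {u : Y} (f : Fact3 X r u) (g g' : Y)
    (hb : Br u (g * u * g⁻¹)) (hb' : Br u (g' * u * g'⁻¹)) :
    ∃ k : ℕ, ((u * (g * u * g⁻¹)) ^ 3 * (u * (g' * u * g'⁻¹)) ^ 3) ^ 3 ^ k = 1 := by
  obtain ⟨b₀, hb₀, hbr, -⟩ := f.ex
  have key : ∀ g, Br u (g * u * g⁻¹) → ∃ q ∈ VJ cs h X (orth cs h r),
      (u * (g * u * g⁻¹)) ^ 3 = q * (u * b₀) ^ 3 * q⁻¹ := by
    intro g hb
    obtain ⟨q, hq, e⟩ := opp_eq L hG f hb₀ hbr hb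
    refine ⟨q, hq, ?_⟩
    have h1 := comm_VJ L f hq
    rw [e, ← conj_pow]
    congr 1
    nth_rw 1 [← h1]
    group
  obtain ⟨q, hq, e⟩ := key g hb
  obtain ⟨q', hq', e'⟩ := key g' hb'
  set z := (u * b₀) ^ 3 with hz
  have hz2 : z * z = 1 := hbr.1
  have hzu : z * u = u * z := hbr.2.2
  have hzV : ∀ v ∈ VJ cs h X (orth cs h r), z * v * z⁻¹ ∈ VJ cs h X (orth cs h r) := by
    intro v hv
    have h1 : cj z (X r) = X r := by
      rw [f.zp]
      unfold cj
      rw [MonoidHom.map_zpowers]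
      congr 1
      change z * u * z⁻¹ = u
      rw [hzu]; group
    rw [← H939.RgdA.norm_VJ L hG h1]
    exact conj_mem_cj.2 hv
  have h1 : (u * (g * u * g⁻¹)) ^ 3 * (u * (g' * u * g'⁻¹)) ^ 3 ∈ VJ cs h X (orth cs h r) := by
    rw [e, e']
    have hzi : z⁻¹ = z := inv_eq_of_mul_eq_one_right hz2
    have e2 : q * z * q⁻¹ * (q' * z * q'⁻¹) = q * (z * (q⁻¹ * q') * z⁻¹) * q'⁻¹ := by
      rw [hzi]; group
    rw [e2]
    exact mul_mem (mul_mem hq (hzV _ (mul_mem (inv_mem hq) hq'))) (inv_mem hq')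
  obtain ⟨k, hk⟩ := isPGroup_VJ R (orth cs h r) ⟨_, h1⟩
  exact ⟨k, congrArg Subtype.val hk⟩

/-- **the field `odd`** -/
theorem odd [Finite W] [Finite Y] (hG : GG cs h T X = ⊤) {u : Y} (f : Fact3 X r u) :
    Odd (Nat.card {b : Y // (∃ g : Y, b = g * u * g⁻¹) ∧ Br u b}) := by
  obtain ⟨b₀, hb₀, hbr, g₀, hg₀⟩ := f.ex
  let _ : MulAction ↥(VJ cs h X (orth cs h r)) Y :=
    MulAction.compHom Y (MulAut.conj.comp (VJ cs h X (orth cs h r)).subtype)
  have horb : ∀ b : Y, b ∈ MulAction.orbit ↥(VJ cs h X (orth cs h r)) b₀ ↔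
      (∃ g : Y, b = g * u * g⁻¹) ∧ Br u b := by
    intro b
    constructor
    · rintro ⟨⟨q, hq⟩, rfl⟩
      change (∃ g : Y, q * b₀ * q⁻¹ = g * u * g⁻¹) ∧ Br u (q * b₀ * q⁻¹)
      refine ⟨⟨q * g₀, by rw [hg₀]; group⟩, ?_⟩
      have h1 := br_conj hbr q
      rwa [comm_VJ L f hq] at h1
    · rintro ⟨⟨g, rfl⟩, hb⟩
      obtain ⟨q, hq, e⟩ := opp_eq L hG f hb₀ hbr hb
      exact ⟨⟨q, hq⟩, e.symm⟩
  have h1 : Nat.card {b : Y // (∃ g : Y, b = g * u * g⁻¹) ∧ Br u b} =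
      Nat.card (MulAction.orbit ↥(VJ cs h X (orth cs h r)) b₀) :=
    Nat.card_congr (Equiv.subtypeEquivRight fun b => (horb b).symm)
  rw [h1]
  have h2 : Nat.card (MulAction.orbit ↥(VJ cs h X (orth cs h r)) b₀) ∣ Nat.card ↥(VJ cs h X (orth cs h r)) := by
    rw [Nat.card_congr (MulAction.orbitEquivQuotientStabilizer ↥(VJ cs h X (orth cs h r)) b₀)]
    exact Subgroup.card_quotient_dvd_card _
  have : Fact (Nat.Prime 3) := ⟨by decide⟩
  obtain ⟨k, hk⟩ := IsPGroup.iff_card.1 (isPGroup_VJ R (orth cs h r))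
  rw [hk] at h2
  exact Odd.of_dvd_nat (Odd.pow (by decide)) h2

/-- **task T7a** : the fields `pair`, `two`, `odd` of `LRG u (VJ (orth r))` -/
theorem lrg_a [Finite W] [Finite Y] (hG : GG cs h T X = ⊤) {i j : I} (hij : M i j = 3) {w : W}
    (hw : rep cs h w (sr i) = r) (hc : Nat.card (X (sr i)) = 3) {u : Y} (hu : u ∈ X r) (hu1 : u ≠ 1) :
    (∀ g : Y, IsPGroup 3 ↥(Subgroup.closure ({u, g * u * g⁻¹} : Set Y)) ∨ Br u (g * u * g⁻¹) ∨
      Br u (g * u⁻¹ * g⁻¹)) ∧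
    (∀ g g' : Y, Br u (g * u * g⁻¹) → Br u (g' * u * g'⁻¹) →
      ∃ k : ℕ, ((u * (g * u * g⁻¹)) ^ 3 * (u * (g' * u * g'⁻¹)) ^ 3) ^ 3 ^ k = 1) ∧
    Odd (Nat.card {b : Y // (∃ g : Y, b = g * u * g⁻¹) ∧ Br u b}) := by
  have f := fact3 R hij hw hc hu hu1
  exact ⟨pair L hG f, two L hG f, odd L hG f⟩

omit L in
/-- `Long R r (X r)` in the simply laced case -/
theorem long_of_SL [Finite W] (R : RGD cs h 3 T n X) (hs : Cfsg.Agent.KFacts.RgdSL.SL cs h) (hr : IsRoot cs h r)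
    (hd : Dom A r) : Long R r (X r) := by
  have := Fintype.ofFinite W
  refine long_X R hr hd (sup_le (fun t ht => ?_) (RGD.Sup_le fun x hx => ?_))
  · rw [mem_normalizer_iff_cj]; exact R.tor r hr t ht
  · have h1 : RGD.Sup X {r} = X r :=
      le_antisymm (RGD.Sup_le fun z hz => by rw [Set.mem_singleton_iff] at hz; rw [hz])
        (RGD.le_Sup (S := {r}) (Set.mem_singleton r))
    have h2 := R.le_normalizer (x := x) (S := {r}) hx.1 (by
      intro y hy
      rw [Set.mem_singleton_iff] at hy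
      subst hy
      refine ⟨hr, ?_⟩
      by_cases hxr : x = y
      · exact Or.inl hxr
      · have h3 : 0 ≤ Cfsg.Agent.Nodes.Coroot.cpr cs h x y := by
          by_contra h4
          push Not at h4
          have h5 := form_nonneg_of_dom cs h hd hx.2
          have h6 := Cfsg.Agent.Nodes.Coroot.two_form_cpr cs h x hr
          have h7 := form_pos cs h hr.ne_zero
          rw [form_comm] at h5
          nlinarith
        refine Or.inr ⟨?_, fun z hz => absurd hz (hs.not_btwn hx.1 hr hxr h3 z)⟩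
        rintro rfl
        rw [Cfsg.Agent.KFacts.RgdSL.cpr_neg_left _ hr, Cfsg.Agent.Nodes.Coroot.cpr_self cs h hr] at h3
        omega)
    rwa [h1] at h2

end Opp

end Cfsg.Agent.H142.SNX
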